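import Groth.Agent.Lib.FPFree25.Cover
import Mathlib.Algebra.Homology.ShortComplex.Exact
import Mathlib.Algebra.Homology.ShortComplex.ShortExact
import Mathlib.CategoryTheory.Abelian.Refinements
import Mathlib.CategoryTheory.Limits.Shapes.FiniteProducts
import Mathlib.Data.Fintype.Sum

/-!
# Modules finitely presented by free modules on quasi-compact objects
-/

set_option autoImplicit false
set_option linter.unusedSectionVars false
set_option linter.style.haveILetI false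
set_option maxHeartbeats 800000

universe u

open CategoryTheory CategoryTheory.Limits Opposite GrothLib.ModFlat

namespace GrothLib.FPFree25

variable {C : Type u} [SmallCategory C] {J : GrothendieckTopology C} {O : Sheaf J CommRingCat.{u}}
  (B : Set C)

/-- A finite direct sum of free modules on members of `B`. -/
def IsSum (P : ModSite.Mod O) : Prop :=
  ∃ (n : ℕ) (U : Fin n → C), (∀ i, U i ∈ B) ∧ Nonempty (P ≅ ∐ fun i => ModSite.freeOn O (U i))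

/-- Generated by finitely many free modules on members of `B`. -/
def IsFG (K : ModSite.Mod O) : Prop := ∃ (P : ModSite.Mod O) (p : P ⟶ K), IsSum B P ∧ Epi p

/-- Presented by finitely many free modules on members of `B`. -/
def IsFP (F : ModSite.Mod O) : Prop :=
  ∃ (Q : ModSite.Mod O) (p : Q ⟶ F), IsSum B Q ∧ Epi p ∧ IsFG B (kernel p)

variable {B}

theorem IsSum.of_iso {P P' : ModSite.Mod O} (e : P ≅ P') (h : IsSum B P) : IsSum B P' := by
  obtain ⟨n, U, hU, ⟨i⟩⟩ := h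
  exact ⟨n, U, hU, ⟨e.symm ≪≫ i⟩⟩

theorem isSum_fin {n : ℕ} (U : Fin n → C) (hU : ∀ i, U i ∈ B) :
    IsSum (O := O) B (∐ fun i => ModSite.freeOn O (U i)) := ⟨n, U, hU, ⟨Iso.refl _⟩⟩

theorem isSum_sigma {ι : Type u} [Finite ι] (U : ι → C) (hU : ∀ i, U i ∈ B) :
    IsSum (O := O) B (∐ fun i => ModSite.freeOn O (U i)) := by
  let e := Finite.equivFin ι
  exact ⟨Nat.card ι, fun k => U (e.symm k), fun k => hU _,
    ⟨(Sigma.reindex e.symm (fun i => ModSite.freeOn O (U i))).symm⟩⟩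

theorem IsSum.biprod {P P' : ModSite.Mod O} (h : IsSum B P) (h' : IsSum B P') : IsSum B (P ⊞ P') := by
  obtain ⟨n, U, hU, ⟨i⟩⟩ := h
  obtain ⟨m, V, hV, ⟨j⟩⟩ := h'
  let W : ULift.{u} (Fin n ⊕ Fin m) → C := fun s => Sum.elim U V s.down
  have hW : ∀ s, W s ∈ B := by
    rintro ⟨a | b⟩
    · exact hU a
    · exact hV b
  refine IsSum.of_iso ?_ (isSum_sigma (O := O) W hW)
  exact
    { hom := Sigma.desc (fun s => match s with
        | ⟨.inl a⟩ => Sigma.ι (fun a => ModSite.freeOn O (U a)) a ≫ i.inv ≫ biprod.inl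
        | ⟨.inr b⟩ => Sigma.ι (fun b => ModSite.freeOn O (V b)) b ≫ j.inv ≫ biprod.inr)
      inv := biprod.desc (i.hom ≫ Sigma.desc fun a => Sigma.ι (fun s => ModSite.freeOn O (W s)) ⟨.inl a⟩)
        (j.hom ≫ Sigma.desc fun b => Sigma.ι (fun s => ModSite.freeOn O (W s)) ⟨.inr b⟩)
      hom_inv_id := Sigma.hom_ext _ _ fun s => by
        obtain ⟨a | b⟩ := s
        · simp [Sigma.ι_desc_assoc]
          exact Sigma.ι_desc _ _
        · simp [Sigma.ι_desc_assoc]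
          exact Sigma.ι_desc _ _
      inv_hom_id := by
        refine biprod.hom_ext' _ _ ?_ ?_
        · rw [biprod.inl_desc_assoc, Category.comp_id, ← cancel_epi i.inv]
          refine Sigma.hom_ext _ _ fun a => ?_
          simp
          exact Sigma.ι_desc _ _
        · rw [biprod.inr_desc_assoc, Category.comp_id, ← cancel_epi j.inv]
          refine Sigma.hom_ext _ _ fun b => ?_
          simp
          exact Sigma.ι_desc _ _ }

theorem IsSum.isFG {P : ModSite.Mod O} (h : IsSum B P) : IsFG B P := ⟨P, 𝟙 P, h, inferInstance⟩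

theorem IsFG.of_epi {K K' : ModSite.Mod O} (h : IsFG B K) (f : K ⟶ K') [Epi f] : IsFG B K' := by
  obtain ⟨P, p, hP, _⟩ := h
  exact ⟨P, p ≫ f, hP, epi_comp p f⟩

theorem IsFG.biprod {K K' : ModSite.Mod O} (h : IsFG B K) (h' : IsFG B K') : IsFG B (K ⊞ K') := by
  obtain ⟨P, p, hP, _⟩ := h
  obtain ⟨P', p', hP', _⟩ := h'
  exact ⟨P ⊞ P', biprod.map p p', hP.biprod hP', inferInstance⟩

variable (hB₁ : ∀ X : C, ∃ (κ : Type u) (Y : κ → C) (g : ∀ k, Y k ⟶ X), Sieve.ofArrows Y g ∈ J X ∧ ∀ k, Y k ∈ B)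

include hB₁ in
theorem exists_cover_in {U : C} (hU : CohCx.IsQcObject (QCCoprod25.hSh J U)) (S : Sieve U) (hS : S ∈ J U) :
    ∃ (κ : Type u) (_ : Finite κ) (V : κ → C) (g : ∀ k, V k ⟶ U),
      (∀ k, V k ∈ B) ∧ (∀ k, S (g k)) ∧ Sieve.ofArrows V g ∈ J U := by
  let T : Sieve U :=
    { arrows := fun V g => ∃ (W : C) (a : V ⟶ W) (b : W ⟶ U), W ∈ B ∧ S b ∧ a ≫ b = g
      downward_closed := fun {V V'} g ⟨W, a, b, hW, hb, e⟩ k => ⟨W, k ≫ a, b, hW, hb, by rw [Category.assoc, e]⟩ }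
  have hT : T ∈ J U := J.transitive hS T fun V g hg => by
    obtain ⟨κ, Yf, a, ha, hY⟩ := hB₁ V
    refine J.superset_covering ?_ ha
    rintro W h ⟨Z, q, _, ⟨k⟩, rfl⟩
    exact ⟨Yf k, q, a k ≫ g, hY k, S.downward_closed hg _, by rw [Category.assoc]⟩
  obtain ⟨κ, hκ, V, g, hg, hcov⟩ := exists_finite_cover hU T hT
  choose W a b hW hb e using hg
  refine ⟨κ, hκ, W, b, hW, hb, J.superset_covering ?_ hcov⟩
  rintro Z h ⟨_, q, _, ⟨k⟩, rfl⟩
  exact ⟨W k, q ≫ a k, b k, ⟨k⟩, by rw [Category.assoc, e]⟩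

/-- A family of arrows into the terms of a finite family. -/
noncomputable def piMap {n : ℕ} (U : Fin n → C) {κ : Fin n → Type u} (V : ∀ i, κ i → C)
    (g : ∀ i k, V i k ⟶ U i) :
    (∐ fun s : (Σ i, κ i) => ModSite.freeOn O (V s.1 s.2)) ⟶ ∐ fun i => ModSite.freeOn O (U i) :=
  Sigma.desc fun s => rmap O (g s.1 s.2) ≫ Sigma.ι (fun i => ModSite.freeOn O (U i)) s.1

theorem ι_piMap_comp {n : ℕ} (U : Fin n → C) {κ : Fin n → Type u} (V : ∀ i, κ i → C)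
    (g : ∀ i k, V i k ⟶ U i) {G : ModSite.Mod O} (h : (∐ fun i => ModSite.freeOn O (U i)) ⟶ G)
    (s : Σ i, κ i) :
    freeOnEquiv O (V s.1 s.2) G
        (Sigma.ι (fun s : (Σ i, κ i) => ModSite.freeOn O (V s.1 s.2)) s ≫ piMap U V g ≫ h) =
      G.val.map (g s.1 s.2).op (freeOnEquiv O (U s.1) G (Sigma.ι (fun i => ModSite.freeOn O (U i)) s.1 ≫ h)) := by
  rw [piMap, Sigma.ι_desc_assoc, Category.assoc, freeOnEquiv_rmap_comp]

theorem epi_piMap {n : ℕ} (U : Fin n → C) {κ : Fin n → Type u} (V : ∀ i, κ i → C)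
    (g : ∀ i k, V i k ⟶ U i) (hc : ∀ i, Sieve.ofArrows (V i) (g i) ∈ J (U i)) :
    Epi (piMap (O := O) U V g) := by
  refine ⟨fun {G} a b hab => Sigma.hom_ext _ _ fun i => (freeOnEquiv O (U i) G).injective ?_⟩
  refine sep O (hc i) _ _ fun k => ?_
  rw [← ι_piMap_comp U V g a ⟨i, k⟩, hab, ι_piMap_comp]

include hB₁ in
/-- Maps from free modules lift after refinement. -/
theorem exists_refine (hB₂ : ∀ U ∈ B, CohCx.IsQcObject (QCCoprod25.hSh J U))
    {P G Q : ModSite.Mod O} (hQ : IsSum B Q) (f : Q ⟶ G) (q : P ⟶ G) [Epi q] :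
    ∃ (n : ℕ) (U : Fin n → C) (_ : ∀ i, U i ∈ B) (e : (∐ fun i => ModSite.freeOn O (U i)) ≅ Q)
      (κ : Fin n → Type u) (_ : ∀ i, Finite (κ i)) (V : ∀ i, κ i → C) (g : ∀ i k, V i k ⟶ U i)
      (l : (∐ fun s : (Σ i, κ i) => ModSite.freeOn O (V s.1 s.2)) ⟶ P),
      (∀ i k, V i k ∈ B) ∧ (∀ i, Sieve.ofArrows (V i) (g i) ∈ J (U i)) ∧
        l ≫ q = piMap U V g ≫ e.hom ≫ f := by
  obtain ⟨n, U, hU, ⟨e⟩⟩ := hQ
  have h : ∀ i, ∃ (κ : Type u) (_ : Finite κ) (V : κ → C) (g : ∀ k, V k ⟶ U i)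
      (y : ∀ k, P.val.obj (op (V k))), (∀ k, V k ∈ B) ∧ Sieve.ofArrows V g ∈ J (U i) ∧
      ∀ k, q.val.app (op (V k)) (y k) = G.val.map (g k).op
        (freeOnEquiv O (U i) G (Sigma.ι (fun i => ModSite.freeOn O (U i)) i ≫ e.inv ≫ f)) := fun i => by
    obtain ⟨S, hS, hl⟩ := exists_local_lift O q
      (freeOnEquiv O (U i) G (Sigma.ι (fun i => ModSite.freeOn O (U i)) i ≫ e.inv ≫ f))
    obtain ⟨κ, hκ, V, g, hV, hg, hc⟩ := exists_cover_in hB₁ (hB₂ _ (hU i)) S hS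
    choose y hy using fun k => hl (g k) (hg k)
    exact ⟨κ, hκ, V, g, y, hV, hc, hy⟩
  choose κ hκ V g y hV hc hy using h
  refine ⟨n, U, hU, e.symm, κ, hκ, V, g,
    Sigma.desc fun s => (freeOnEquiv O (V s.1 s.2) P).symm (y s.1 s.2), hV, hc, ?_⟩
  refine Sigma.hom_ext _ _ fun s => (freeOnEquiv O (V s.1 s.2) G).injective ?_
  rw [Sigma.ι_desc_assoc, freeOnEquiv_comp, Equiv.apply_symm_apply, hy, ← ι_piMap_comp U V g]
  rfl

include hB₁ in
/-- Maps from free modules lift after an epimorphism from free modules. -/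
theorem exists_lift (hB₂ : ∀ U ∈ B, CohCx.IsQcObject (QCCoprod25.hSh J U))
    {P G Q : ModSite.Mod O} (hQ : IsSum B Q) (f : Q ⟶ G) (q : P ⟶ G) [Epi q] :
    ∃ (Q' : ModSite.Mod O) (π : Q' ⟶ Q) (l : Q' ⟶ P), IsSum B Q' ∧ Epi π ∧ l ≫ q = π ≫ f := by
  obtain ⟨n, U, hU, e, κ, hκ, V, g, l, hV, hc, hl⟩ := exists_refine hB₁ hB₂ hQ f q
  haveI := epi_piMap (O := O) U V g hc
  exact ⟨_, piMap U V g ≫ e.hom, l, isSum_sigma _ (fun s => hV s.1 s.2), epi_comp _ _,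
    by rw [hl, Category.assoc]⟩

theorem isFP_of_cokernel {P Q F : ModSite.Mod O} (ψ : P ⟶ Q) (hP : IsFG B P) (hQ : IsSum B Q)
    (e : F ≅ cokernel ψ) : IsFP B F := by
  let p : Q ⟶ F := cokernel.π ψ ≫ e.inv
  have hw : ψ ≫ p = 0 := by rw [← Category.assoc, cokernel.condition, zero_comp]
  have hex : (ShortComplex.mk ψ p hw).Exact :=
    ShortComplex.exact_of_iso (ShortComplex.isoMk
      (S₁ := ShortComplex.mk ψ (cokernel.π ψ) (cokernel.condition ψ)) (S₂ := ShortComplex.mk ψ p hw)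
      (Iso.refl _) (Iso.refl _) e.symm (by simp) (by simp [p]))
      ((ShortComplex.mk ψ (cokernel.π ψ) (cokernel.condition ψ)).exact_of_g_is_cokernel (cokernelIsCokernel ψ))
  haveI : Epi (kernel.lift p ψ hw) := (ShortComplex.exact_iff_epi_kernel_lift _).1 hex
  exact ⟨Q, p, hQ, epi_comp _ _, hP.of_epi (kernel.lift p ψ hw)⟩

theorem isFP_iff (F : ModSite.Mod O) :
    IsFP B F ↔ ∃ (m' n' : ℕ) (V' : Fin m' → C) (U' : Fin n' → C)
        (ψ : (∐ fun j => ModSite.freeOn O (V' j)) ⟶ ∐ fun i => ModSite.freeOn O (U' i)),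
        (∀ j, V' j ∈ B) ∧ (∀ i, U' i ∈ B) ∧ Nonempty (F ≅ cokernel ψ) := by
  constructor
  · rintro ⟨Q, p, ⟨n, U, hU, ⟨a⟩⟩, hp, P, r, ⟨m, V, hV, ⟨b⟩⟩, hr⟩
    haveI := hp
    haveI := hr
    let ψ : (∐ fun j => ModSite.freeOn O (V j)) ⟶ ∐ fun i => ModSite.freeOn O (U i) :=
      (b.inv ≫ r) ≫ kernel.ι p ≫ a.hom
    have hex : (ShortComplex.mk (kernel.ι p) p (kernel.condition p)).Exact :=
      ShortComplex.exact_of_f_is_kernel _ (kernelIsKernel p)
    refine ⟨m, n, V, U, ψ, hV, hU, ⟨?_⟩⟩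
    refine (IsColimit.coconePointUniqueUpToIso hex.gIsCokernel (cokernelIsCokernel (kernel.ι p))) ≪≫ ?_
    exact (cokernelCompIsIso (kernel.ι p) a.hom).symm ≪≫ (cokernelEpiComp (b.inv ≫ r) _).symm
  · rintro ⟨m, n, V, U, ψ, hV, hU, ⟨e⟩⟩
    exact isFP_of_cokernel ψ (isSum_fin V hV).isFG (isSum_fin U hU) e

include hB₁ in
/-- Cokernels of maps of presented modules are presented. -/
theorem isFP_cokernel (hB₂ : ∀ U ∈ B, CohCx.IsQcObject (QCCoprod25.hSh J U))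
    {F G : ModSite.Mod O} (α : F ⟶ G) (hF : IsFP B F) (hG : IsFP B G) : IsFP B (cokernel α) := by
  obtain ⟨QF, pF, hQF, _, -⟩ := hF
  obtain ⟨QG, pG, hQG, _, hK⟩ := hG
  obtain ⟨Q', π, l, hQ', _, hl⟩ := exists_lift hB₁ hB₂ hQF (pF ≫ α) pG
  let φ : kernel pG ⊞ Q' ⟶ QG := biprod.desc (kernel.ι pG) l
  have hw : φ ≫ pG ≫ cokernel.π α = 0 := by
    refine biprod.hom_ext' _ _ ?_ ?_
    · simp [φ]
    · simp [φ, reassoc_of% hl]
  refine isFP_of_cokernel φ (hK.biprod hQ'.isFG) hQG ?_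
  have hcond : kernel.ι pG ≫ cokernel.π φ = 0 := by
    have h' := congrArg (fun t => biprod.inl ≫ t) (cokernel.condition φ)
    exact (biprod.inl_desc_assoc _ _ _).symm.trans (h'.trans comp_zero)
  refine
    { hom := cokernel.desc α (Abelian.epiDesc pG (cokernel.π φ) hcond) ?_
      inv := cokernel.desc φ (pG ≫ cokernel.π α) hw
      hom_inv_id := ?_
      inv_hom_id := ?_ }
  · rw [← cancel_epi pF, ← cancel_epi π, comp_zero, comp_zero, ← Category.assoc pF, ← Category.assoc π,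
      ← hl, Category.assoc, Abelian.comp_epiDesc]
    have h' := congrArg (fun t => biprod.inr ≫ t) (cokernel.condition φ)
    exact (biprod.inr_desc_assoc _ _ _).symm.trans (h'.trans comp_zero)
  · rw [← cancel_epi (cokernel.π α), ← cancel_epi pG]
    simp
  · rw [← cancel_epi (cokernel.π φ)]
    simp

theorem kernel_map_epi {Q F G : ModSite.Mod O} (p : Q ⟶ F) [Epi p] (α : F ⟶ G) :
    Epi (kernel.lift α (kernel.ι (p ≫ α) ≫ p) (by rw [Category.assoc, kernel.condition])) := by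
  rw [epi_iff_surjective_up_to_refinements]
  intro A y
  obtain ⟨A', π, hπ, x, hx⟩ := surjective_up_to_refinements_of_epi p (y ≫ kernel.ι α)
  refine ⟨A', π, hπ, kernel.lift _ x ?_, ?_⟩
  · rw [← Category.assoc, ← hx, Category.assoc, Category.assoc, kernel.condition, comp_zero, comp_zero]
  · rw [← cancel_mono (kernel.ι α), Category.assoc, Category.assoc, kernel.lift_ι,
      kernel.lift_ι_assoc, hx]

include hB₁ in
theorem isFG_kernel_to_FP (hB₂ : ∀ U ∈ B, CohCx.IsQcObject (QCCoprod25.hSh J U))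
    (hker : ∀ {P Q : ModSite.Mod O} (φ : P ⟶ Q), IsSum B P → IsSum B Q → IsFG B (kernel φ))
    {Q G : ModSite.Mod O} (hQ : IsSum B Q) (f : Q ⟶ G) (hG : IsFP B G) : IsFG B (kernel f) := by
  obtain ⟨QG, pG, hQG, _, VG, rG, hVG, _⟩ := hG
  obtain ⟨Q', π, l, hQ', _, hl⟩ := exists_lift hB₁ hB₂ hQ f pG
  let Φ : Q' ⊞ VG ⟶ QG := biprod.desc l (rG ≫ kernel.ι pG)
  have hw : kernel.ι Φ ≫ biprod.fst ≫ π ≫ f = 0 := by
    have h : biprod.fst ≫ π ≫ f = Φ ≫ pG := by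
      refine biprod.hom_ext' _ _ ?_ ?_
      · simp [Φ, hl]
      · simp [Φ]
    rw [h, kernel.condition_assoc, zero_comp]
  let θ : kernel Φ ⟶ kernel f := kernel.lift f (kernel.ι Φ ≫ biprod.fst ≫ π) (by simpa using hw)
  haveI : Epi θ := by
    rw [epi_iff_surjective_up_to_refinements]
    intro A a
    obtain ⟨A₁, π₁, hπ₁, y, hy⟩ := surjective_up_to_refinements_of_epi π (a ≫ kernel.ι f)
    have hyl : (y ≫ l) ≫ pG = 0 := by
      rw [Category.assoc, hl, ← Category.assoc, ← hy]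
      simp
    obtain ⟨A₂, π₂, hπ₂, v, hv⟩ := surjective_up_to_refinements_of_epi rG (kernel.lift pG (y ≫ l) hyl)
    have hv' := congrArg (fun t => t ≫ kernel.ι pG) hv
    simp only [Category.assoc, kernel.lift_ι] at hv'
    refine ⟨A₂, π₂ ≫ π₁, epi_comp _ _, kernel.lift Φ (biprod.lift (π₂ ≫ y) (-v)) ?_, ?_⟩
    · simp [Φ, hv']
    · rw [← cancel_mono (kernel.ι f)]
      simp [θ, hy]
  exact (hker Φ (hQ'.biprod hVG) hQG).of_epi θ

include hB₁ in
/-- Kernels of maps of presented modules are presented. -/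
theorem isFP_kernel (hB₂ : ∀ U ∈ B, CohCx.IsQcObject (QCCoprod25.hSh J U))
    (hker : ∀ {P Q : ModSite.Mod O} (φ : P ⟶ Q), IsSum B P → IsSum B Q → IsFG B (kernel φ))
    {F G : ModSite.Mod O} (α : F ⟶ G) (hF : IsFP B F) (hG : IsFP B G) : IsFP B (kernel α) := by
  have hF' := hF
  obtain ⟨QF, pF, hQF, _, -⟩ := hF'
  haveI := kernel_map_epi pF α
  have hfg : IsFG B (kernel α) := (isFG_kernel_to_FP hB₁ hB₂ hker hQF (pF ≫ α) hG).of_epi
    (kernel.lift α (kernel.ι (pF ≫ α) ≫ pF) _)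
  obtain ⟨P, p, hP, hp⟩ := hfg
  refine ⟨P, p, hP, hp, (isFG_kernel_to_FP hB₁ hB₂ hker hP (p ≫ kernel.ι α) hF).of_epi
    (kernelCompMono p (kernel.ι α)).hom⟩

include hB₁ in
theorem isFG_ext (hB₂ : ∀ U ∈ B, CohCx.IsQcObject (QCCoprod25.hSh J U))
    {K₁ K₂ K₃ : ModSite.Mod O} (i : K₁ ⟶ K₂) (p : K₂ ⟶ K₃) [Epi p] (w : i ≫ p = 0)
    (hex : (ShortComplex.mk i p w).Exact) (h₁ : IsFG B K₁) (h₃ : IsFG B K₃) : IsFG B K₂ := by
  obtain ⟨P₁, q₁, hP₁, _⟩ := h₁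
  obtain ⟨P₃, q₃, hP₃, _⟩ := h₃
  obtain ⟨P₃', π, l, hP₃', _, hl⟩ := exists_lift hB₁ hB₂ hP₃ q₃ p
  refine ⟨P₁ ⊞ P₃', biprod.desc (q₁ ≫ i) l, hP₁.biprod hP₃', ?_⟩
  rw [epi_iff_surjective_up_to_refinements]
  intro A x
  obtain ⟨A₁, π₁, hπ₁, z, hz⟩ := surjective_up_to_refinements_of_epi (π ≫ q₃) (x ≫ p)
  have hd : (π₁ ≫ x - z ≫ l) ≫ p = 0 := by
    rw [Preadditive.sub_comp, Category.assoc, Category.assoc, hl, hz, sub_self]
  obtain ⟨A₂, π₂, hπ₂, y, hy⟩ := hex.exact_up_to_refinements (π₁ ≫ x - z ≫ l) hd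
  obtain ⟨A₃, π₃, hπ₃, t, ht⟩ := surjective_up_to_refinements_of_epi q₁ y
  refine ⟨A₃, π₃ ≫ π₂ ≫ π₁, inferInstance, biprod.lift t (π₃ ≫ π₂ ≫ z), ?_⟩
  dsimp at hy
  rw [biprod.lift_desc, ← Category.assoc t, ← ht]
  simp only [Category.assoc]
  rw [← hy]
  simp [Preadditive.comp_sub]

end GrothLib.FPFree25
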