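import Groth.Agent.Lib.FPFree25.Basic
import Mathlib.CategoryTheory.Filtered.Basic
import Mathlib.CategoryTheory.Comma.Over.Basic

/-!
# Every module is a filtered colimit of presented modules
-/

set_option autoImplicit false
set_option linter.unusedSectionVars false
set_option linter.style.haveILetI false
set_option maxHeartbeats 800000
set_option backward.isDefEq.respectTransparency false
set_option backward.isDefEq.respectTransparency.types false

universe u

open CategoryTheory CategoryTheory.Limits Opposite GrothLib.ModFlat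

namespace GrothLib.FPFree25

variable {C : Type u} [SmallCategory C] {J : GrothendieckTopology C} {O : Sheaf J CommRingCat.{u}}
  (B : Set C) (F : ModSite.Mod O)

theorem isFG_zero {K : ModSite.Mod O} (hK : IsZero K) : IsFG B K :=
  ⟨_, 0, isSum_fin (O := O) (B := B) (n := 0) Fin.elim0 (fun i => i.elim0),
    ⟨fun a b _ => hK.eq_of_src _ _⟩⟩

theorem IsSum.isFP {P : ModSite.Mod O} (h : IsSum B P) : IsFP B P :=
  ⟨P, 𝟙 P, h, inferInstance, isFG_zero B ((isZero_zero _).of_iso (kernel.ofMono (𝟙 P)))⟩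

theorem isSum_freeOn {U : C} (hU : U ∈ B) : IsSum B (ModSite.freeOn O U) :=
  IsSum.of_iso
    { hom := Sigma.desc fun _ => 𝟙 _
      inv := Sigma.ι (fun _ : Fin 1 => ModSite.freeOn O U) 0
      hom_inv_id := Sigma.hom_ext _ _ fun i => by
        obtain rfl := Fin.fin_one_eq_zero i
        simp
      inv_hom_id := Sigma.ι_desc _ _ } (isSum_fin (fun _ => U) fun _ => hU)

variable {B}

theorem IsFP.biprod {M M' : ModSite.Mod O} (h : IsFP B M) (h' : IsFP B M') : IsFP B (M ⊞ M') := by
  obtain ⟨Q, p, hQ, _, hK⟩ := h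
  obtain ⟨Q', p', hQ', _, hK'⟩ := h'
  let θ : kernel p ⊞ kernel p' ⟶ kernel (biprod.map p p') :=
    kernel.lift _ (biprod.map (kernel.ι p) (kernel.ι p')) (biprod.hom_ext' _ _ (by simp) (by simp))
  haveI : Epi θ := by
    rw [epi_iff_surjective_up_to_refinements]
    intro A x
    have h0 : (x ≫ kernel.ι (biprod.map p p')) ≫ biprod.map p p' = 0 := by simp
    have h1 : ((x ≫ kernel.ι (biprod.map p p')) ≫ biprod.fst) ≫ p = 0 := by
      rw [Category.assoc, ← biprod.map_fst p p', ← Category.assoc, h0, zero_comp]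
    have h2 : ((x ≫ kernel.ι (biprod.map p p')) ≫ biprod.snd) ≫ p' = 0 := by
      rw [Category.assoc, ← biprod.map_snd p p', ← Category.assoc, h0, zero_comp]
    refine ⟨A, 𝟙 A, inferInstance, biprod.lift (kernel.lift _ _ h1) (kernel.lift _ _ h2), ?_⟩
    rw [← cancel_mono (kernel.ι (biprod.map p p'))]
    refine biprod.hom_ext _ _ ?_ ?_ <;> simp [θ]
  exact ⟨Q ⊞ Q', biprod.map p p', hQ.biprod hQ', inferInstance, (hK.biprod hK').of_epi θ⟩

variable (B)

/-- A presentation with a map to `F`. -/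
structure Idx : Type u where
  m : ℕ
  n : ℕ
  V : Fin m → C
  U : Fin n → C
  hV : ∀ j, V j ∈ B
  hU : ∀ i, U i ∈ B
  ψ : (∐ fun j => ModSite.freeOn O (V j)) ⟶ ∐ fun i => ModSite.freeOn O (U i)
  β : cokernel ψ ⟶ F

variable {B F}

/-- Maps of presentations over `F`. -/
@[ext]
structure IdxHom (x y : Idx B F) : Type u where
  hom : cokernel x.ψ ⟶ cokernel y.ψ
  w : hom ≫ y.β = x.β

noncomputable instance : SmallCategory (Idx B F) where
  Hom := IdxHom
  id x := ⟨𝟙 _, Category.id_comp _⟩
  comp f g := ⟨f.hom ≫ g.hom, by rw [Category.assoc, g.w, f.w]⟩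
  id_comp f := IdxHom.ext (Category.id_comp _)
  comp_id f := IdxHom.ext (Category.comp_id _)
  assoc f g h := IdxHom.ext (Category.assoc _ _ _)

/-- The diagram of presented modules. -/
noncomputable def diag : Idx B F ⥤ ModSite.Mod O where
  obj x := cokernel x.ψ
  map f := f.hom

/-- The maps to `F`. -/
noncomputable def toF : diag (B := B) (F := F) ⟶ (Functor.const _).obj F where
  app x := x.β
  naturality x y f := (IdxHom.w f).trans (Category.comp_id _).symm

theorem isFP_idx (x : Idx B F) : IsFP B (cokernel x.ψ) :=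
  (isFP_iff _).2 ⟨x.m, x.n, x.V, x.U, x.ψ, x.hV, x.hU, ⟨Iso.refl _⟩⟩

theorem exists_idx {M : ModSite.Mod O} (hM : IsFP B M) (β : M ⟶ F) :
    ∃ (x : Idx B F) (e : M ≅ cokernel x.ψ), e.hom ≫ x.β = β := by
  obtain ⟨m, n, V, U, ψ, hV, hU, ⟨e⟩⟩ := (isFP_iff M).1 hM
  exact ⟨⟨m, n, V, U, hV, hU, ψ, e.inv ≫ β⟩, e, e.hom_inv_id_assoc β⟩

variable (hB₁ : ∀ X : C, ∃ (κ : Type u) (Y : κ → C) (g : ∀ k, Y k ⟶ X), Sieve.ofArrows Y g ∈ J X ∧ ∀ k, Y k ∈ B)
  (hB₂ : ∀ U ∈ B, CohCx.IsQcObject (QCCoprod25.hSh J U))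

include hB₁ hB₂ in
theorem isFiltered_idx : IsFiltered (Idx B F) := by
  haveI : Nonempty (Idx B F) := ⟨(exists_idx (F := F) (IsSum.isFP B
    (isSum_fin (O := O) (n := 0) Fin.elim0 (fun i => i.elim0))) 0).choose⟩
  haveI : IsFilteredOrEmpty (Idx B F) :=
    { cocone_objs := fun x y => by
        obtain ⟨z, e, he⟩ := exists_idx ((isFP_idx x).biprod (isFP_idx y)) (biprod.desc x.β y.β)
        exact ⟨z, ⟨biprod.inl ≫ e.hom, by rw [Category.assoc, he, biprod.inl_desc]⟩,
          ⟨biprod.inr ≫ e.hom, by rw [Category.assoc, he, biprod.inr_desc]⟩, trivial⟩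
      cocone_maps := fun x y f g => by
        obtain ⟨z, e, he⟩ := exists_idx (isFP_cokernel hB₁ hB₂ (f.hom - g.hom) (isFP_idx x) (isFP_idx y))
          (cokernel.desc _ y.β (by rw [Preadditive.sub_comp, f.w, g.w, sub_self]))
        refine ⟨z, ⟨cokernel.π _ ≫ e.hom, by rw [Category.assoc, he, cokernel.π_desc]⟩, IdxHom.ext ?_⟩
        have h := cokernel.condition (f.hom - g.hom)
        rw [Preadditive.sub_comp, sub_eq_zero] at h
        exact (Category.assoc _ _ _).symm.trans ((congrArg (· ≫ e.hom) h).trans (Category.assoc _ _ _)) }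
  exact {}

include hB₁ in
theorem eq_zero_of_sections {M G : ModSite.Mod O} (h : M ⟶ G)
    (hh : ∀ U ∈ B, ∀ a : ModSite.freeOn O U ⟶ M, a ≫ h = 0) : h = 0 := by
  apply (SheafOfModules.toSheaf (ModSite.ringSh O)).map_injective
  apply Sheaf.hom_ext
  ext ⟨X⟩ s
  obtain ⟨κ, Y, g, hg, hY⟩ := hB₁ X
  let z : G.val.obj (op X) := h.val.app (op X) s
  change z = 0
  refine sep O hg z 0 fun k => ?_
  let y : M.val.obj (op (Y k)) := M.val.map (g k).op s
  have h1 := congrArg (freeOnEquiv O (Y k) G) (hh _ (hY k) ((freeOnEquiv O (Y k) M).symm y))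
  rw [freeOnEquiv_comp, Equiv.apply_symm_apply] at h1
  have h2 : freeOnEquiv O (Y k) G 0 = 0 := by
    have := QCCoprod25.freeOnEquiv_add O (Y k) (0 : ModSite.freeOn O (Y k) ⟶ G) 0
    rw [add_zero] at this
    exact left_eq_add.1 this
  rw [h2] at h1
  refine ((PresheafOfModules.naturality_apply h.val (g k).op s).symm.trans h1).trans (map_zero _).symm

theorem mem_closure_map {ι : Type u} (H : ModSite.Mod O ⥤ AddCommGrpCat.{u}) (G : ι → ModSite.Mod O)
    [PreservesColimit (Discrete.functor G) H] (z : H.obj (∐ G)) :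
    z ∈ AddSubgroup.closure (⋃ i, Set.range (H.map (Sigma.ι G i))) := by
  let r : H.obj (∐ G) ⟶ AddCommGrpCat.of (H.obj (∐ G) ⧸ AddSubgroup.closure (⋃ i, Set.range (H.map (Sigma.ι G i)))) :=
    AddCommGrpCat.ofHom (QuotientAddGroup.mk' _)
  have hr : r = 0 := by
    refine (isColimitOfPreserves H (coproductIsCoproduct G)).hom_ext
      fun ⟨i⟩ => ConcreteCategory.hom_ext _ _ fun t => ?_
    exact (QuotientAddGroup.eq_zero_iff _).2 (AddSubgroup.subset_closure (Set.mem_iUnion.2 ⟨i, t, rfl⟩))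
  exact (QuotientAddGroup.eq_zero_iff z).1 (ConcreteCategory.congr_hom hr z)

include hB₁ hB₂ in
theorem nonempty_isColimit : Nonempty (IsColimit (Cocone.mk F (toF (B := B) (F := F)))) := by
  haveI := isFiltered_idx (F := F) hB₁ hB₂
  let c := colimit.cocone (diag (B := B) (F := F))
  let φ : c.pt ⟶ F := colimit.desc _ (Cocone.mk F toF)
  have hφ : ∀ x, colimit.ι (diag (B := B) (F := F)) x ≫ φ = x.β := fun x => colimit.ι_desc _ x
  haveI : Epi φ := by
    refine Preadditive.epi_of_cancel_zero φ fun {G} h hh => eq_zero_of_sections hB₁ h fun U hU a => ?_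
    obtain ⟨x, e, he⟩ := exists_idx (IsSum.isFP B (isSum_freeOn (O := O) B hU)) a
    rw [← he, Category.assoc, ← hφ, Category.assoc, hh, comp_zero, comp_zero]
  let q : (∐ fun x : Idx B F => cokernel x.ψ) ⟶ c.pt := Sigma.desc fun x => colimit.ι diag x
  haveI : Epi q := ⟨fun a b hab => colimit.hom_ext fun x => by
    have h := congrArg (fun t => Sigma.ι (fun x : Idx B F => cokernel x.ψ) x ≫ t) hab
    simp only [q, Sigma.ι_desc_assoc] at h
    exact h⟩
  haveI : Mono φ := by
    refine Preadditive.mono_of_kernel_iso_zero (IsZero.isoZero ?_)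
    refine (IsZero.iff_id_eq_zero _).2 (eq_zero_of_sections hB₁ _ fun U hU a => ?_)
    rw [Category.comp_id, ← cancel_mono (kernel.ι φ), zero_comp]
    let a' := a ≫ kernel.ι φ
    have ha : a' ≫ φ = 0 := by simp [a']
    change a' = 0
    obtain ⟨S, hS, hl⟩ := exists_local_lift O q (freeOnEquiv O U _ a')
    obtain ⟨κ, _, V, g, hV, hg, hc⟩ := exists_cover_in hB₁ (hB₂ U hU) S hS
    apply (freeOnEquiv O U c.pt).injective
    refine sep O hc _ _ fun k => ?_
    obtain ⟨y, hy⟩ := hl (g k) (hg k)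
    rw [← freeOnEquiv_rmap_comp, ← freeOnEquiv_rmap_comp, comp_zero]
    let h := (freeOnEquiv O (V k) _).symm y
    have hh : h ≫ q = rmap O (g k) ≫ a' := by
      apply (freeOnEquiv O (V k) _).injective
      rw [freeOnEquiv_comp, Equiv.apply_symm_apply, hy, freeOnEquiv_rmap_comp]
    congr 1
    rw [← hh]
    -- every map into the sum comes from one stage
    have key : ∃ (x : Idx B F) (b : ModSite.freeOn O (V k) ⟶ cokernel x.ψ),
        b ≫ colimit.ι (diag (B := B) (F := F)) x = h ≫ q := by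
      haveI := QCCoprod25.preservesColimitsOfShape_coyoneda O (hB₂ _ (hV k)) (Idx B F)
      let H := preadditiveCoyoneda.obj (op (ModSite.freeOn O (V k)))
      have hM := mem_closure_map H (fun x : Idx B F => cokernel x.ψ) h
      revert hM
      generalize h = h'
      intro hM
      induction hM using AddSubgroup.closure_induction with
      | mem t ht =>
        obtain ⟨x, b, rfl⟩ := Set.mem_iUnion.1 ht
        refine ⟨x, b, ?_⟩
        change _ = (b ≫ Sigma.ι (fun x : Idx B F => cokernel x.ψ) x) ≫ q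
        simp [q]
      | zero =>
        obtain ⟨x⟩ := IsFiltered.nonempty (C := Idx B F)
        exact ⟨x, 0, zero_comp.trans zero_comp.symm⟩
      | add s t _ _ hs ht =>
        obtain ⟨x, b, hb⟩ := hs
        obtain ⟨y', b', hb'⟩ := ht
        let z := IsFiltered.max x y'
        refine ⟨z, b ≫ (IsFiltered.leftToMax x y').hom + b' ≫ (IsFiltered.rightToMax x y').hom, ?_⟩
        have e1 : (IsFiltered.leftToMax x y').hom ≫ colimit.ι diag z = colimit.ι diag x :=
          colimit.w (diag (B := B) (F := F)) (IsFiltered.leftToMax x y')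
        have e2 : (IsFiltered.rightToMax x y').hom ≫ colimit.ι diag z = colimit.ι diag y' :=
          colimit.w (diag (B := B) (F := F)) (IsFiltered.rightToMax x y')
        refine (Preadditive.add_comp _ _ _ _ _ _).trans (Eq.trans ?_ (Preadditive.add_comp _ _ _ s t q).symm)
        exact congrArg₂ (· + ·) ((Category.assoc _ _ _).trans ((congrArg (b ≫ ·) e1).trans hb))
          ((Category.assoc _ _ _).trans ((congrArg (b' ≫ ·) e2).trans hb'))
      | neg s _ hs =>
        obtain ⟨x, b, hb⟩ := hs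
        refine ⟨x, -b, ?_⟩
        exact (Preadditive.neg_comp _ _).trans ((congrArg Neg.neg hb).trans (Preadditive.neg_comp s q).symm)
    obtain ⟨x, b, hb⟩ := key
    have hbβ : b ≫ x.β = 0 := by
      rw [← hφ, ← Category.assoc, hb, hh, Category.assoc, ha, comp_zero]
    obtain ⟨z, e, he⟩ := exists_idx (isFP_cokernel hB₁ hB₂ b (IsSum.isFP B (isSum_freeOn B (hV k))) (isFP_idx x))
      (cokernel.desc b x.β hbβ)
    let m : x ⟶ z := ⟨cokernel.π b ≫ e.hom, by rw [Category.assoc, he, cokernel.π_desc]⟩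
    rw [← hb, ← colimit.w (diag (B := B) (F := F)) m]
    change b ≫ (cokernel.π b ≫ e.hom) ≫ _ = 0
    simp
  haveI : IsIso φ := isIso_of_mono_of_epi φ
  exact ⟨IsColimit.ofIsoColimit (colimit.isColimit (diag (B := B) (F := F)))
    (Cocone.ext (asIso φ) hφ)⟩

end GrothLib.FPFree25
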