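import Groth.Agent.Lib.QCCoprod25.Mod

/-!
# Finite refinements of covers of quasi-compact objects, and maps of free modules
-/

set_option autoImplicit false
set_option linter.unusedSectionVars false
set_option linter.style.haveILetI false

universe u

open CategoryTheory CategoryTheory.Limits Opposite

namespace GrothLib.FPFree25

variable {C : Type u} [SmallCategory C] {J : GrothendieckTopology C}

open QCCoprod25 in
/-- A covering sieve of a quasi-compact object contains finitely many arrows generating a cover. -/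
theorem exists_finite_cover {W : C} (hW : CohCx.IsQcObject (hSh J W)) (S : Sieve W) (hS : S ∈ J W) :
    ∃ (κ : Type u) (_ : Finite κ) (V : κ → C) (g : ∀ k, V k ⟶ W),
      (∀ k, S (g k)) ∧ Sieve.ofArrows V g ∈ J W := by
  let f : ∀ a : (Σ V : C, { f : V ⟶ W // S f }), hSh J a.1 ⟶ hSh J W :=
    fun (a : Σ V : C, { g : V ⟶ W // S g }) => (presheafToSheaf J (Type u)).map (yoneda.map a.2.1)
  obtain ⟨t, ht⟩ := hW _ (fun (a : Σ V : C, { g : V ⟶ W // S g }) => hSh J a.1) f (by
    intro U s
    let R := Presheaf.imageSieve (toSheafify J (yoneda.obj W)) s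
    have hR : R ∈ J U := Presheaf.imageSieve_mem J (toSheafify J (yoneda.obj W)) (U := op U) s
    refine ⟨Sieve.bind R.arrows
      (fun V g hg => S.pullback (show V ⟶ W from Exists.choose hg)), ?_, ?_⟩
    · exact J.bind_covering hR fun V g hg => J.pullback_stable _ hS
    · intro V g hg
      obtain ⟨V', h, k, hk, hS', rfl⟩ := hg
      refine ⟨⟨V, h ≫ (show V' ⟶ W from Exists.choose hk), hS'⟩, η J V (𝟙 V), ?_⟩
      have hsp : η J W (show V' ⟶ W from Exists.choose hk) = (hSh J W).obj.map k.op s := Exists.choose_spec hk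
      refine (η_map _ (𝟙 V)).trans ?_
      rw [Category.id_comp, ← η_res, hsp, op_comp, Functor.map_comp_apply])
  refine ⟨t, inferInstance, fun a => a.1.1, fun a => a.1.2.1, fun a => a.1.2.2, ?_⟩
  obtain ⟨R, hR, hR'⟩ := ht W (η J W (𝟙 W))
  refine J.transitive hR _ fun V g hg => ?_
  obtain ⟨⟨a, ha⟩, y, hy⟩ := hR' V g hg
  refine J.transitive (Presheaf.imageSieve_mem J (toSheafify J (yoneda.obj a.1)) (U := op V) y) _
    fun V' h hh => ?_
  obtain ⟨b, hb⟩ := hh
  let b' : V' ⟶ a.1 := b
  have e : η J W (b' ≫ a.2.1) = η J W (h ≫ g) := by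
    rw [← η_map a.2.1 b', show η J a.1 b' = _ from hb, NatTrans.naturality_apply,
      show (f a).hom.app (op V) y = _ from hy, η_res, η_res, Category.comp_id]
  let x₁ : ToType ((yoneda.obj W).obj (op V')) := b' ≫ a.2.1
  let x₂ : ToType ((yoneda.obj W).obj (op V')) := h ≫ g
  refine J.superset_covering ?_ (Presheaf.equalizerSieve_mem J (toSheafify J (yoneda.obj W)) x₁ x₂ e)
  intro V'' k hk
  have hk' : k ≫ b' ≫ a.2.1 = k ≫ h ≫ g := hk
  exact ⟨a.1, k ≫ b', a.2.1, ⟨(⟨a, ha⟩ : t)⟩,
    by rw [Category.assoc, hk', Category.assoc]⟩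

variable (O : Sheaf J CommRingCat.{u})

open ModFlat

/-- The map of free modules of an arrow. -/
noncomputable def rmap {V U : C} (f : V ⟶ U) : ModSite.freeOn O V ⟶ ModSite.freeOn O U :=
  (freeOnEquiv O V _).symm ((ModSite.freeOn O U).val.map f.op (freeOnEquiv O U _ (𝟙 _)))

theorem freeOnEquiv_rmap_comp {V U : C} (f : V ⟶ U) {G : ModSite.Mod O}
    (h : ModSite.freeOn O U ⟶ G) :
    freeOnEquiv O V G (rmap O f ≫ h) = G.val.map f.op (freeOnEquiv O U G h) := by
  rw [freeOnEquiv_comp, rmap, Equiv.apply_symm_apply]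
  refine (PresheafOfModules.naturality_apply h.val f.op _).trans ?_
  rw [← freeOnEquiv_comp, Category.id_comp]

theorem eq_zero_of_equiv {U : C} {G : ModSite.Mod O} (h : ModSite.freeOn O U ⟶ G)
    (hh : freeOnEquiv O U G h = 0) : h = 0 := by
  apply (freeOnEquiv O U G).injective
  rw [hh]
  have := QCCoprod25.freeOnEquiv_add O U (0 : ModSite.freeOn O U ⟶ G) 0
  rw [add_zero] at this
  exact left_eq_add.1 this

theorem sep {U : C} {κ : Type*} {V : κ → C} {g : ∀ k, V k ⟶ U} (hg : Sieve.ofArrows V g ∈ J U)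
    {G : ModSite.Mod O} (a b : G.val.obj (op U)) (h : ∀ k, G.val.map (g k).op a = G.val.map (g k).op b) :
    a = b := by
  have hG : Presieve.IsSheaf J (((SheafOfModules.toSheaf _).obj G).obj ⋙ forget AddCommGrpCat.{u}) :=
    (isSheaf_iff_isSheaf_of_type _ _).1
      ((Presheaf.isSheaf_iff_isSheaf_forget J _ (forget _)).1 ((SheafOfModules.toSheaf _).obj G).property)
  refine (hG _ hg).isSeparatedFor.ext fun W f hf => ?_
  obtain ⟨Z, q, k', ⟨k⟩, rfl⟩ := hf
  change G.val.map (q ≫ g k).op a = G.val.map (q ≫ g k).op b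
  rw [op_comp, PresheafOfModules.map_comp_apply, PresheafOfModules.map_comp_apply, h k]

theorem glue {U : C} [HasPullbacks C] {κ : Type u} {V : κ → C} {g : ∀ k, V k ⟶ U}
    (hg : Sieve.ofArrows V g ∈ J U) {G : ModSite.Mod O} (x : ∀ k, G.val.obj (op (V k)))
    (hx : ∀ k l, G.val.map (pullback.fst (g k) (g l)).op (x k) = G.val.map (pullback.snd (g k) (g l)).op (x l)) :
    ∃ z : G.val.obj (op U), ∀ k, G.val.map (g k).op z = x k := by
  have hG : Presieve.IsSheaf J (((SheafOfModules.toSheaf _).obj G).obj ⋙ forget AddCommGrpCat.{u}) :=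
    (isSheaf_iff_isSheaf_of_type _ _).1
      ((Presheaf.isSheaf_iff_isSheaf_forget J _ (forget _)).1 ((SheafOfModules.toSheaf _).obj G).property)
  have h : Presieve.IsSheafFor (((SheafOfModules.toSheaf _).obj G).obj ⋙ forget AddCommGrpCat.{u})
      (Presieve.ofArrows V g) := (Presieve.isSheafFor_iff_generate _).2 (hG _ hg)
  obtain ⟨z, hz, -⟩ := (Presieve.isSheafFor_arrows_iff _ g).1 h x (by
    intro k l W qk ql e
    let P := ((SheafOfModules.toSheaf _).obj G).obj
    have hx' : P.map (pullback.fst (g k) (g l)).op (x k) = P.map (pullback.snd (g k) (g l)).op (x l) :=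
      hx k l
    change P.map qk.op (x k) = P.map ql.op (x l)
    rw [← pullback.lift_fst qk ql e, op_comp, Functor.map_comp_apply, hx',
      ← Functor.map_comp_apply, ← op_comp, pullback.lift_snd])
  exact ⟨z, hz⟩

theorem exists_local_lift {P G : ModSite.Mod O} (q : P ⟶ G) [Epi q] {U : C} (s : G.val.obj (op U)) :
    ∃ S ∈ J U, ∀ ⦃W : C⦄ (f : W ⟶ U), S f → ∃ y : P.val.obj (op W), q.val.app (op W) y = G.val.map f.op s := by
  haveI := SheafCoh.preservesColimitsOfSize_toSheaf.{u} (ModSite.ringSh O)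
  haveI : PreservesColimitsOfShape WalkingSpan (SheafOfModules.toSheaf.{u} (ModSite.ringSh O)) :=
    (PreservesColimitsOfSize.preservesFiniteColimits _).preservesFiniteColimits _
  haveI : Epi ((SheafOfModules.toSheaf (ModSite.ringSh O)).map q) := inferInstance
  haveI : Sheaf.IsLocallySurjective ((SheafOfModules.toSheaf (ModSite.ringSh O)).map q) :=
    (Sheaf.isLocallySurjective_iff_epi' _ _).2 inferInstance
  let s' : ToType (((SheafOfModules.toSheaf (ModSite.ringSh O)).obj G).obj.obj (op U)) := s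
  exact ⟨_, Presheaf.imageSieve_mem J ((SheafOfModules.toSheaf (ModSite.ringSh O)).map q).hom (U := op U) s',
    fun W f hf => hf⟩

end GrothLib.FPFree25
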