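import Groth.Agent.Lib.FPFree25.Basic

/-!
# Extensions of presented modules
-/

set_option autoImplicit false
set_option linter.unusedSectionVars false
set_option linter.style.haveILetI false
set_option maxHeartbeats 800000

universe u

open CategoryTheory CategoryTheory.Limits Opposite GrothLib.ModFlat

namespace GrothLib.FPFree25

variable {C : Type u} [SmallCategory C] [HasPullbacks C] {J : GrothendieckTopology C} {O : Sheaf J CommRingCat.{u}}
  {B : Set C}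
  (hB₁ : ∀ X : C, ∃ (κ : Type u) (Y : κ → C) (g : ∀ k, Y k ⟶ X), Sieve.ofArrows Y g ∈ J X ∧ ∀ k, Y k ∈ B)
  (hB₂ : ∀ U ∈ B, CohCx.IsQcObject (QCCoprod25.hSh J U))
  (hB₃ : ∀ (U U₁ U₂ : C) (f₁ : U₁ ⟶ U) (f₂ : U₂ ⟶ U), U ∈ B → U₁ ∈ B → U₂ ∈ B →
    CohCx.IsQcObject (QCCoprod25.hSh J (pullback f₁ f₂)))

include hB₁ hB₃ in
/-- The relations between the members of a finite cover are finitely generated. -/
theorem isFG_kernel_piMap {n : ℕ} (U : Fin n → C) (hU : ∀ i, U i ∈ B) {κ : Fin n → Type u}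
    [∀ i, Finite (κ i)] (V : ∀ i, κ i → C) (hV : ∀ i k, V i k ∈ B)
    (g : ∀ i k, V i k ⟶ U i) (hc : ∀ i, Sieve.ofArrows (V i) (g i) ∈ J (U i)) :
    IsFG B (kernel (piMap (O := O) U V g)) := by
  let p : (Σ i, κ i × κ i) → C := fun r => pullback (g r.1 r.2.1) (g r.1 r.2.2)
  have h : ∀ r : (Σ i, κ i × κ i), ∃ (μ : Type u) (_ : Finite μ) (W : μ → C) (w : ∀ m, W m ⟶ p r),
      (∀ m, W m ∈ B) ∧ Sieve.ofArrows W w ∈ J (p r) := fun r => by
    obtain ⟨μ, hμ, W, w, hW, -, hw⟩ := exists_cover_in hB₁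
      (hB₃ _ _ _ (g r.1 r.2.1) (g r.1 r.2.2) (hU r.1) (hV _ _) (hV _ _)) ⊤ (J.top_mem _)
    exact ⟨μ, hμ, W, w, hW, hw⟩
  choose μ hμ W w hW hw using h
  haveI := hμ
  let a : ∀ s : (Σ r : (Σ i, κ i × κ i), μ r), ModSite.freeOn O (W s.1 s.2) ⟶
      ∐ fun s : (Σ i, κ i) => ModSite.freeOn O (V s.1 s.2) := fun s =>
    rmap O (w s.1 s.2 ≫ pullback.fst (g s.1.1 s.1.2.1) (g s.1.1 s.1.2.2)) ≫
      Sigma.ι (fun s : (Σ i, κ i) => ModSite.freeOn O (V s.1 s.2)) ⟨s.1.1, s.1.2.1⟩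
  let b : ∀ s : (Σ r : (Σ i, κ i × κ i), μ r), ModSite.freeOn O (W s.1 s.2) ⟶
      ∐ fun s : (Σ i, κ i) => ModSite.freeOn O (V s.1 s.2) := fun s =>
    rmap O (w s.1 s.2 ≫ pullback.snd (g s.1.1 s.1.2.1) (g s.1.1 s.1.2.2)) ≫
      Sigma.ι (fun s : (Σ i, κ i) => ModSite.freeOn O (V s.1 s.2)) ⟨s.1.1, s.1.2.2⟩
  let ρ : (∐ fun s : (Σ r : (Σ i, κ i × κ i), μ r) => ModSite.freeOn O (W s.1 s.2)) ⟶
      ∐ fun s : (Σ i, κ i) => ModSite.freeOn O (V s.1 s.2) := Sigma.desc fun s => a s - b s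
  have hρ : ρ ≫ piMap U V g = 0 := by
    refine Sigma.hom_ext _ _ fun s => ?_
    rw [comp_zero, Sigma.ι_desc_assoc, Preadditive.sub_comp, sub_eq_zero]
    simp only [a, b, piMap, Category.assoc, Sigma.ι_desc]
    apply (freeOnEquiv O (W s.1 s.2) _).injective
    rw [freeOnEquiv_rmap_comp, freeOnEquiv_rmap_comp, freeOnEquiv_rmap_comp, freeOnEquiv_rmap_comp]
    change ((SheafOfModules.toSheaf (ModSite.ringSh O)).obj _).obj.map _ _ =
      ((SheafOfModules.toSheaf (ModSite.ringSh O)).obj _).obj.map _ _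
    refine (Functor.map_comp_apply _ _ _ _).symm.trans (Eq.trans ?_ (Functor.map_comp_apply _ _ _ _))
    rw [← op_comp, ← op_comp, Category.assoc, Category.assoc, pullback.condition]
  have hdesc : ∀ {G : ModSite.Mod O} (h : (∐ fun s : (Σ i, κ i) => ModSite.freeOn O (V s.1 s.2)) ⟶ G),
      ρ ≫ h = 0 → ∃ h', piMap U V g ≫ h' = h := fun {G} h hh => by
    let x : ∀ i k, G.val.obj (op (V i k)) := fun i k =>
      freeOnEquiv O (V i k) G (Sigma.ι (fun s : (Σ i, κ i) => ModSite.freeOn O (V s.1 s.2)) ⟨i, k⟩ ≫ h)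
    have hx : ∀ i k l, G.val.map (pullback.fst (g i k) (g i l)).op (x i k) =
        G.val.map (pullback.snd (g i k) (g i l)).op (x i l) := fun i k l => by
      refine sep O (hw ⟨i, k, l⟩) _ _ fun m => ?_
      have e : a ⟨⟨i, k, l⟩, m⟩ ≫ h = b ⟨⟨i, k, l⟩, m⟩ ≫ h := by
        rw [← sub_eq_zero, ← Preadditive.sub_comp]
        have := congrArg (fun t => Sigma.ι (fun s : (Σ r : (Σ i, κ i × κ i), μ r) =>
          ModSite.freeOn O (W s.1 s.2)) ⟨⟨i, k, l⟩, m⟩ ≫ t) hh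
        simpa [ρ, Sigma.ι_desc_assoc] using this
      have e' := congrArg (freeOnEquiv O (W ⟨i, k, l⟩ m) G) e
      simp only [a, b, Category.assoc, freeOnEquiv_rmap_comp] at e'
      let P := ((SheafOfModules.toSheaf (ModSite.ringSh O)).obj G).obj
      change P.map (w ⟨i, k, l⟩ m).op (P.map (pullback.fst (g i k) (g i l)).op (x i k)) =
        P.map (w ⟨i, k, l⟩ m).op (P.map (pullback.snd (g i k) (g i l)).op (x i l))
      rw [← Functor.map_comp_apply, ← Functor.map_comp_apply, ← op_comp, ← op_comp]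
      exact e'
    choose z hz using fun i => glue O (hc i) (x i) (hx i)
    refine ⟨Sigma.desc fun i => (freeOnEquiv O (U i) G).symm (z i), ?_⟩
    refine Sigma.hom_ext _ _ fun s => (freeOnEquiv O (V s.1 s.2) G).injective ?_
    rw [ι_piMap_comp, Sigma.ι_desc, Equiv.apply_symm_apply, hz]
  haveI := epi_piMap (O := O) U V g hc
  have hex : (ShortComplex.mk ρ (piMap U V g) hρ).Exact := by
    refine ShortComplex.exact_of_g_is_cokernel _ (CokernelCofork.IsColimit.ofπ _ _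
      (fun h hh => (hdesc h hh).choose) (fun h hh => (hdesc h hh).choose_spec) (fun h hh m hm => ?_))
    rw [← cancel_epi (piMap (O := O) U V g), hm, (hdesc h hh).choose_spec]
  haveI : Epi (kernel.lift (piMap U V g) ρ hρ) := (ShortComplex.exact_iff_epi_kernel_lift _).1 hex
  exact (isSum_sigma (O := O) (fun s : (Σ r : (Σ i, κ i × κ i), μ r) => W s.1 s.2)
    (fun s => hW s.1 s.2)).isFG.of_epi (kernel.lift (piMap U V g) ρ hρ)

include hB₁ hB₂ hB₃ in
/-- Extensions of presented modules are presented. -/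
theorem isFP_ext (S : ShortComplex (ModSite.Mod O)) (hS : S.ShortExact) (h₁ : IsFP B S.X₁) (h₃ : IsFP B S.X₃) :
    IsFP B S.X₂ := by
  haveI := hS.mono_f
  haveI := hS.epi_g
  obtain ⟨Q₁, p₁, hQ₁, _, hK₁⟩ := h₁
  obtain ⟨Q₃, p₃, hQ₃, _, hK₃⟩ := h₃
  obtain ⟨n, U, hU, e, κ, hκ, V, g, l, hV, hc, hl⟩ := exists_refine hB₁ hB₂ hQ₃ p₃ S.g
  haveI := hκ
  haveI := epi_piMap (O := O) U V g hc
  let π := piMap (O := O) U V g ≫ e.hom
  haveI : Epi π := epi_comp _ _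
  have hπ : IsFG B (kernel π) := (isFG_kernel_piMap hB₁ hB₃ U hU V hV g hc).of_epi
    (kernelCompMono (piMap (O := O) U V g) e.hom).inv
  have hl' : l ≫ S.g = π ≫ p₃ := by rw [hl, Category.assoc]
  have hR : IsFG B (kernel (π ≫ p₃)) := by
    let i : kernel π ⟶ kernel (π ≫ p₃) := kernel.lift _ (kernel.ι π) (by rw [kernel.condition_assoc, zero_comp])
    let q : kernel (π ≫ p₃) ⟶ kernel p₃ := kernel.lift _ (kernel.ι (π ≫ p₃) ≫ π) (by simp)
    haveI : Epi q := kernel_map_epi π p₃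
    have w : i ≫ q = 0 := by
      rw [← cancel_mono (kernel.ι p₃)]
      simp [i, q]
    refine isFG_ext hB₁ hB₂ i q w ?_ hπ hK₃
    rw [ShortComplex.exact_iff_exact_up_to_refinements]
    intro A x hx
    dsimp at x hx
    have hx' : (x ≫ kernel.ι (π ≫ p₃)) ≫ π = 0 := by
      have := congrArg (fun t => t ≫ kernel.ι p₃) hx
      simpa [q] using this
    refine ⟨A, 𝟙 A, inferInstance, kernel.lift π _ hx', ?_⟩
    rw [← cancel_mono (kernel.ι (π ≫ p₃))]
    simp [i]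
  let p₂ : Q₁ ⊞ (∐ fun s : (Σ i, κ i) => ModSite.freeOn O (V s.1 s.2)) ⟶ S.X₂ := biprod.desc (p₁ ≫ S.f) l
  haveI : Epi p₂ := by
    rw [epi_iff_surjective_up_to_refinements]
    intro A x
    obtain ⟨A₁, π₁, hπ₁, z, hz⟩ := surjective_up_to_refinements_of_epi (π ≫ p₃) (x ≫ S.g)
    have hd : (π₁ ≫ x - z ≫ l) ≫ S.g = 0 := by
      rw [Preadditive.sub_comp, Category.assoc, Category.assoc, hl', hz, sub_self]
    obtain ⟨A₂, π₂, hπ₂, y, hy⟩ := hS.exact.exact_up_to_refinements (π₁ ≫ x - z ≫ l) hd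
    obtain ⟨A₃, π₃, hπ₃, t, ht⟩ := surjective_up_to_refinements_of_epi p₁ y
    refine ⟨A₃, π₃ ≫ π₂ ≫ π₁, inferInstance, biprod.lift t (π₃ ≫ π₂ ≫ z), ?_⟩
    rw [biprod.lift_desc, ← Category.assoc t, ← ht]
    simp only [Category.assoc]
    rw [← hy]
    simp [Preadditive.comp_sub]
  refine ⟨_, p₂, hQ₁.biprod (isSum_sigma (fun s : (Σ i, κ i) => V s.1 s.2) (fun s => hV s.1 s.2)), ‹Epi p₂›, ?_⟩
  let i : kernel p₁ ⟶ kernel p₂ := kernel.lift _ (kernel.ι p₁ ≫ biprod.inl) (by simp [p₂])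
  let q : kernel p₂ ⟶ kernel (π ≫ p₃) := kernel.lift _ (kernel.ι p₂ ≫ biprod.snd) (by
    have h : biprod.snd ≫ π ≫ p₃ = p₂ ≫ S.g := by
      refine biprod.hom_ext' _ _ ?_ ?_
      · simp [p₂]
      · simp [p₂, hl']
    rw [Category.assoc, h, kernel.condition_assoc, zero_comp])
  haveI : Epi q := by
    rw [epi_iff_surjective_up_to_refinements]
    intro A x
    have hd : (x ≫ kernel.ι (π ≫ p₃) ≫ l) ≫ S.g = 0 := by
      simp [hl']
    obtain ⟨A₁, π₁, hπ₁, y, hy⟩ := hS.exact.exact_up_to_refinements _ hd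
    obtain ⟨A₂, π₂, hπ₂, t, ht⟩ := surjective_up_to_refinements_of_epi p₁ y
    refine ⟨A₂, π₂ ≫ π₁, epi_comp _ _,
      kernel.lift _ (biprod.lift (-t) (π₂ ≫ π₁ ≫ x ≫ kernel.ι (π ≫ p₃))) ?_, ?_⟩
    · rw [biprod.lift_desc]
      simp only [Preadditive.neg_comp, Category.assoc]
      rw [← Category.assoc t, ← ht, Category.assoc, ← hy]
      simp
    · rw [← cancel_mono (kernel.ι (π ≫ p₃))]
      simp [q]
  have w : i ≫ q = 0 := by
    rw [← cancel_mono (kernel.ι (π ≫ p₃))]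
    simp [i, q]
  refine isFG_ext hB₁ hB₂ i q w ?_ hK₁ hR
  rw [ShortComplex.exact_iff_exact_up_to_refinements]
  intro A x hx
  dsimp at x hx
  have hx' : (x ≫ kernel.ι p₂) ≫ biprod.snd = 0 := by
    have := congrArg (fun t => t ≫ kernel.ι (π ≫ p₃)) hx
    simpa [q] using this
  have hy : ((x ≫ kernel.ι p₂) ≫ biprod.fst) ≫ p₁ = 0 := by
    rw [← cancel_mono S.f, zero_comp]
    have h0 : (x ≫ kernel.ι p₂) ≫ p₂ = 0 := by rw [Category.assoc, kernel.condition, comp_zero]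
    rw [show x ≫ kernel.ι p₂ = biprod.lift ((x ≫ kernel.ι p₂) ≫ biprod.fst) ((x ≫ kernel.ι p₂) ≫ biprod.snd)
      from biprod.hom_ext _ _ (by simp) (by simp), biprod.lift_desc, hx'] at h0
    simpa using h0
  refine ⟨A, 𝟙 A, inferInstance, kernel.lift p₁ _ hy, ?_⟩
  rw [← cancel_mono (kernel.ι p₂)]
  refine biprod.hom_ext _ _ ?_ ?_
  · simp [i]
  · simp only [Category.assoc] at hx'
    simp [i, hx']

end GrothLib.FPFree25
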